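import Mathlib
set_option linter.all false

/-!
# S5764 (five conjugates of a solvable subgroup): interface, linear part (helper198)

`V` a finite-dimensional space over a finite field `K`, `R = End_K(V)`.  `Aut(PSL_n(K))` is the group `RA` of ring
automorphisms and anti-automorphisms of `R` (only ring automorphisms `RP` for `n = 2`): `theta` anti-automorphism acts on
`PSL` by `x ↦ theta(x)⁻¹`.  `cj x` is conjugation `X ↦ x X x⁻¹`, `IN` its range (the group `PGL(V)`).
`Five S`: there are `x₁, …, x₄ ∈ SL(V)` such that `S ∩ S^{x₁} ∩ ⋯ ∩ S^{x₄} = 1`.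
All groups are subgroups of `Equiv.Perm R` resp. `Equiv.Perm V` (additivity is part of the definitions).
-/

set_option autoImplicit false

namespace Cfsg.Agent.H198.FC

universe u v

section defs

variable (K : Type u) [Field K] (V : Type v) [AddCommGroup V] [Module K V]

/-- `R = End_K(V)` -/
abbrev R := Module.End K V

/-- conjugation by a unit of `R` -/
def cj : (R K V)ˣ →* Equiv.Perm (R K V) where
  toFun x :=
    { toFun := fun X => x * X * (x⁻¹ : (R K V)ˣ)
      invFun := fun X => (x⁻¹ : (R K V)ˣ) * X * x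
      left_inv := fun X => by simp [mul_assoc]
      right_inv := fun X => by simp [mul_assoc] }
  map_one' := by
    apply Equiv.ext
    intro X
    change ((1 : (R K V)ˣ) : R K V) * X * (((1 : (R K V)ˣ)⁻¹ : (R K V)ˣ) : R K V) = X
    simp
  map_mul' x y := by
    apply Equiv.ext
    intro X
    change ((x * y : (R K V)ˣ) : R K V) * X * (((x * y)⁻¹ : (R K V)ˣ) : R K V) =
      x * (y * X * ((y⁻¹ : (R K V)ˣ) : R K V)) * ((x⁻¹ : (R K V)ˣ) : R K V)
    simp [mul_assoc]

variable {K V} in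
@[simp] theorem cj_apply (x : (R K V)ˣ) (X : R K V) : cj K V x X = x * X * (x⁻¹ : (R K V)ˣ) := rfl

/-- ring automorphisms of `R` (the group `PΓL(V)`) -/
def RP : Subgroup (Equiv.Perm (R K V)) where
  carrier := {f | (∀ X Y, f (X + Y) = f X + f Y) ∧ ∀ X Y, f (X * Y) = f X * f Y}
  one_mem' := ⟨fun _ _ => rfl, fun _ _ => rfl⟩
  mul_mem' := by
    rintro f g ⟨hf0, hf⟩ ⟨hg0, hg⟩
    refine ⟨fun X Y => ?_, fun X Y => ?_⟩
    · change f (g (X + Y)) = f (g X) + f (g Y)
      rw [hg0, hf0]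
    · change f (g (X * Y)) = f (g X) * f (g Y)
      rw [hg, hf]
  inv_mem' := by
    rintro f ⟨hf0, hf⟩
    refine ⟨fun X Y => ?_, fun X Y => ?_⟩
    · apply f.injective
      rw [hf0]
      simp
    · apply f.injective
      rw [hf]
      simp

/-- ring automorphisms and anti-automorphisms of `R` (the group `PΓL(V).2`) -/
def RA : Subgroup (Equiv.Perm (R K V)) where
  carrier := {f | (∀ X Y, f (X + Y) = f X + f Y) ∧
    ((∀ X Y, f (X * Y) = f X * f Y) ∨ (∀ X Y, f (X * Y) = f Y * f X))}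
  one_mem' := ⟨fun _ _ => rfl, Or.inl fun _ _ => rfl⟩
  mul_mem' := by
    rintro f g ⟨hf0, hf⟩ ⟨hg0, hg⟩
    refine ⟨fun X Y => ?_, ?_⟩
    · change f (g (X + Y)) = f (g X) + f (g Y)
      rw [hg0, hf0]
    rcases hf with hf | hf <;> rcases hg with hg | hg
    · left; intro X Y
      change f (g (X * Y)) = f (g X) * f (g Y)
      rw [hg, hf]
    · right; intro X Y
      change f (g (X * Y)) = f (g Y) * f (g X)
      rw [hg, hf]
    · right; intro X Y
      change f (g (X * Y)) = f (g Y) * f (g X)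
      rw [hg, hf]
    · left; intro X Y
      change f (g (X * Y)) = f (g X) * f (g Y)
      rw [hg, hf]
  inv_mem' := by
    rintro f ⟨hf0, hf⟩
    refine ⟨fun X Y => ?_, ?_⟩
    · apply f.injective
      rw [hf0]
      simp
    rcases hf with hf | hf
    · left; intro X Y
      apply f.injective
      rw [hf]
      simp
    · right; intro X Y
      apply f.injective
      rw [hf]
      simp

/-- conjugations by units of `R` (the group `PGL(V)`) -/
def IN : Subgroup (Equiv.Perm (R K V)) := (cj K V).range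

variable {K V}

theorem RP_le_RA : RP K V ≤ RA K V := fun _ hf => ⟨hf.1, Or.inl hf.2⟩

theorem cj_mem_RP (x : (R K V)ˣ) : cj K V x ∈ RP K V := by
  refine ⟨fun X Y => ?_, fun X Y => ?_⟩
  · simp [mul_add, add_mul]
  · simp [mul_assoc]

theorem IN_le_RP : IN K V ≤ RP K V := by
  rintro _ ⟨x, rfl⟩
  exact cj_mem_RP x

/-- `S ∩ S^{x₁} ∩ ⋯ ∩ S^{x₄} = 1` for some `xᵢ ∈ SL(V)` -/
def Five (S : Subgroup (Equiv.Perm (R K V))) : Prop :=
  ∃ x : Fin 4 → (R K V)ˣ, (∀ i, LinearMap.det ((x i : (R K V)ˣ) : R K V) = 1) ∧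
    ∀ f ∈ S, (∀ i, cj K V (x i) * f * (cj K V (x i))⁻¹ ∈ S) → f = 1

theorem Five.mono {S S' : Subgroup (Equiv.Perm (R K V))} (h : S ≤ S') (hF : Five S') : Five S := by
  obtain ⟨x, hx, hS⟩ := hF
  exact ⟨x, hx, fun f hf hi => hS f (h hf) fun i => h (hi i)⟩

/-- `f ∈ RP` (induced by the semilinear bijection `g`) stabilizes the subspace `W`, i.e. `g W = W`; in the language
of `R`: `f` maps the right ideal of the `X` with image in `W` to itself. -/
def Stb (f : Equiv.Perm (R K V)) (W : Submodule K V) : Prop :=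
  ∀ X : R K V, (∀ v, X v ∈ W) → ∀ v, f X v ∈ W

/-- an anti-automorphism `f` (induced by the correlation `g : V → V*`) maps the subspace `W` to `W'` (`g W` is the
annihilator of `W'`, so `dim W' = n - dim W`): `im X ⊆ W` implies `ker f(X) ⊇ W'`. -/
def Cor (f : Equiv.Perm (R K V)) (W W' : Submodule K V) : Prop :=
  ∀ X : R K V, (∀ v, X v ∈ W) → ∀ w ∈ W', f X w = 0

/-! ### the semilinear language (used for the reducible case without correlations) -/

variable (K V) in
/-- semilinear bijections of `V` -/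
def Semi : Subgroup (Equiv.Perm V) where
  carrier := {g | (∀ v w, g (v + w) = g v + g w) ∧ ∃ σ : K ≃+* K, ∀ (a : K) (v : V), g (a • v) = σ a • g v}
  one_mem' := ⟨fun _ _ => rfl, RingEquiv.refl K, fun _ _ => rfl⟩
  mul_mem' := by
    rintro g h ⟨hg0, σ, hg⟩ ⟨hh0, τ, hh⟩
    refine ⟨fun v w => ?_, τ.trans σ, fun a v => ?_⟩
    · change g (h (v + w)) = g (h v) + g (h w)
      rw [hh0, hg0]
    · change g (h (a • v)) = σ (τ a) • g (h v)
      rw [hh, hg]
  inv_mem' := by
    rintro g ⟨hg0, σ, hg⟩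
    refine ⟨fun v w => ?_, σ.symm, fun a v => ?_⟩
    · apply g.injective
      rw [hg0]
      simp
    · apply g.injective
      rw [hg]
      simp

variable (K V) in
/-- homotheties `v ↦ a v` -/
def hm : Kˣ →* Equiv.Perm V where
  toFun a :=
    { toFun := fun v => a • v
      invFun := fun v => a⁻¹ • v
      left_inv := fun v => by simp
      right_inv := fun v => by simp }
  map_one' := by
    apply Equiv.ext
    intro v
    change (1 : Kˣ) • v = v
    simp
  map_mul' a b := by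
    apply Equiv.ext
    intro v
    change (a * b) • v = a • b • v
    rw [mul_smul]

@[simp] theorem hm_apply (a : Kˣ) (v : V) : hm K V a v = (a : K) • v := rfl

/-- `S ∩ S^{x₁} ∩ ⋯ ∩ S^{x₄}` consists of homotheties for some `xᵢ ∈ SL(V)` (`S` a group of semilinear bijections
containing the homotheties). -/
def FiveV (K : Type u) [Field K] (V : Type v) [AddCommGroup V] [Module K V] (S : Subgroup (Equiv.Perm V)) : Prop :=
  ∃ x : Fin 4 → (V ≃ₗ[K] V), (∀ i, LinearMap.det ((x i : V ≃ₗ[K] V) : V →ₗ[K] V) = 1) ∧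
    ∀ g ∈ S, (∀ i, ((x i).toEquiv : Equiv.Perm V) * g * ((x i).toEquiv : Equiv.Perm V)⁻¹ ∈ S) →
      ∃ a : Kˣ, g = hm K V a

theorem FiveV.mono {S S' : Subgroup (Equiv.Perm V)} (h : S ≤ S') (hF : FiveV K V S') : FiveV K V S := by
  obtain ⟨x, hx, hS⟩ := hF
  exact ⟨x, hx, fun f hf hi => hS f (h hf) fun i => h (hi i)⟩

end defs

/-- the abstract form: five conjugates of every solvable subgroup of `Aut(T)` (conjugated by inner automorphisms)
intersect trivially -/
def FiveAut (T : Type u) [Group T] : Prop :=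
  ∀ S : Subgroup (MulAut T), Group.IsSolvable S → ∃ x : Fin 4 → T,
    ∀ α ∈ S, (∀ i, MulAut.conj (x i) * α * (MulAut.conj (x i))⁻¹ ∈ S) → α = 1

/-! ### The statements -/

/-- `FiveAut` for the linear groups -/
def StmtAutL : Prop :=
  ∀ (F : Type) [Field F] [Fintype F] (n : ℕ), 2 ≤ n → (n = 2 → 4 ≤ Fintype.card F) →
    FiveAut (Matrix.ProjectiveSpecialLinearGroup (Fin n) F)

/-- **Linear groups, final statement.** -/
def ThmL : Prop :=
  ∀ (K : Type u) [Field K] [Finite K] (V : Type v) [AddCommGroup V] [Module K V] [Module.Finite K V],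
    2 ≤ Module.finrank K V → (Module.finrank K V = 2 → 4 ≤ Nat.card K) →
    ∀ S : Subgroup (Equiv.Perm (R K V)), S ≤ RA K V → (Module.finrank K V = 2 → S ≤ RP K V) →
      Group.IsSolvable S → Five S

/-- `S` contains no non-trivial inner-diagonal automorphism. -/
def StmtS00 : Prop :=
  ∀ (K : Type u) [Field K] [Finite K] (V : Type v) [AddCommGroup V] [Module K V] [Module.Finite K V],
    2 ≤ Module.finrank K V →
    ∀ S : Subgroup (Equiv.Perm (R K V)), S ≤ RA K V → (Module.finrank K V = 2 → S ≤ RP K V) →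
      Group.IsSolvable S → S ⊓ IN K V = ⊥ → Five S

/-- `S` permutes the members of a direct decomposition of `V` into `k ≥ 2` subspaces of the same dimension; a
decomposition is given by its projections. -/
def StmtC2 : Prop :=
  ∀ (K : Type u) [Field K] [Finite K] (V : Type v) [AddCommGroup V] [Module K V] [Module.Finite K V]
    (S : Subgroup (Equiv.Perm (R K V))), S ≤ RA K V → (Module.finrank K V = 2 → S ≤ RP K V) → Group.IsSolvable S →
    ∀ (k d : ℕ) (e : Fin k → R K V), 2 ≤ k → 1 ≤ d → CompleteOrthogonalIdempotents e →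
    (∀ i, Module.finrank K (LinearMap.range (e i)) = d) →
    (∀ f ∈ S, ∃ π : Equiv.Perm (Fin k), ∀ i, f (e i) = e (π i)) → Five S

/-- `S` normalizes a subfield `E ⊃ K` of `R` of prime degree over `K`. -/
def StmtC3 : Prop :=
  ∀ (K : Type u) [Field K] [Finite K] (V : Type v) [AddCommGroup V] [Module K V] [Module.Finite K V]
    (S : Subgroup (Equiv.Perm (R K V))), S ≤ RA K V → (Module.finrank K V = 2 → S ≤ RP K V ∧ 4 ≤ Nat.card K) →
    Group.IsSolvable S →
    ∀ (E : Subalgebra K (R K V)), IsField E → (Module.finrank K E).Prime →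
    (∀ f ∈ S, ∀ X ∈ E, f X ∈ E) → Five S

/-- `S` normalizes a tensor decomposition `V = U ⊗ Y`, `dim U = u' ≥ 2`, `dim Y = y ≥ 2`, given by an isomorphism
`Φ` of `M_{u' y}(K)` with `R`. -/
def StmtC4 : Prop :=
  ∀ (K : Type u) [Field K] [Finite K] (V : Type v) [AddCommGroup V] [Module K V] [Module.Finite K V]
    (S : Subgroup (Equiv.Perm (R K V))), S ≤ RA K V → Group.IsSolvable S →
    ∀ (u' y : ℕ) (Φ : Matrix (Fin u' × Fin y) (Fin u' × Fin y) K ≃ₐ[K] R K V), 2 ≤ u' → 2 ≤ y →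
    (∀ f ∈ S, ∀ B : Matrix (Fin u') (Fin u') K, ∃ B' : Matrix (Fin u') (Fin u') K,
      f (Φ (Matrix.kroneckerMap (· * ·) B (1 : Matrix (Fin y) (Fin y) K))) =
        Φ (Matrix.kroneckerMap (· * ·) B' (1 : Matrix (Fin y) (Fin y) K))) → Five S

/-- `A` is an elementary abelian `r`-subgroup of `PGL(V)` of order `n²`, `n = r^a = dim V`, spanning `R` (the image of an
extraspecial-type group acting irreducibly); `S` normalizes `A`, and `A` is a minimal normal subgroup of `S`. -/
def C6Data {K : Type u} [Field K] {V : Type v} [AddCommGroup V] [Module K V] (S A : Subgroup (Equiv.Perm (R K V)))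
    (r a : ℕ) : Prop :=
  r.Prime ∧ 1 ≤ a ∧ Module.finrank K V = r ^ a ∧ A ≤ S ∧ A ≤ IN K V ∧ Nat.card A = r ^ (2 * a) ∧
  (∀ f ∈ A, f ^ r = 1) ∧ (∀ f ∈ A, ∀ g ∈ A, f * g = g * f) ∧
  -- the lifts span `R`
  (Submodule.span K {X : R K V | ∃ x : (R K V)ˣ, (x : R K V) = X ∧ cj K V x ∈ A} = ⊤) ∧
  (∀ g ∈ S, ∀ f ∈ A, g * f * g⁻¹ ∈ A) ∧
  (∀ B : Subgroup (Equiv.Perm (R K V)), B ≤ A → (∀ g ∈ S, ∀ f ∈ B, g * f * g⁻¹ ∈ B) → B = ⊥ ∨ B = A)

/-- extraspecial type normalizers -/
def StmtC6 : Prop :=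
  ∀ (K : Type u) [Field K] [Finite K] (V : Type v) [AddCommGroup V] [Module K V] [Module.Finite K V]
    (S : Subgroup (Equiv.Perm (R K V))), S ≤ RA K V → (Module.finrank K V = 2 → S ≤ RP K V ∧ 4 ≤ Nat.card K) →
    Group.IsSolvable S →
    ∀ (A : Subgroup (Equiv.Perm (R K V))) (r a : ℕ), C6Data S A r a → Five S

/-- the semilinear version of the theorem in dimension `m` over `K` -/
def ThmV (K : Type u) [Field K] (m : ℕ) : Prop :=
  ∀ (V : Type v) [AddCommGroup V] [Module K V] [Module.Finite K V], Module.finrank K V = m →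
    ∀ S : Subgroup (Equiv.Perm V), S ≤ Semi K V → (∀ a, hm K V a ∈ S) → Group.IsSolvable S → FiveV K V S

/-- reducible, without correlations, in the semilinear language; the induction hypothesis is the semilinear theorem in
all dimensions `2 ≤ m < dim V` (`m ≥ 3` for `|K| = 2, 3`) -/
def StmtRed : Prop :=
  ∀ (K : Type u) [Field K] [Finite K] (V : Type v) [AddCommGroup V] [Module K V] [Module.Finite K V]
    (S : Subgroup (Equiv.Perm V)), S ≤ Semi K V → (∀ a, hm K V a ∈ S) → Group.IsSolvable S →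
    (Module.finrank K V = 2 → 4 ≤ Nat.card K) →
    (∀ m, 2 ≤ m → m < Module.finrank K V → (m = 2 → 4 ≤ Nat.card K) → ThmV.{u, v} K m) →
    (∃ W : Submodule K V, W ≠ ⊥ ∧ W ≠ ⊤ ∧ ∀ g ∈ S, ∀ w ∈ W, g w ∈ W) → FiveV K V S

/-- reducible with a correlation -/
def StmtRedCor : Prop :=
  ∀ (K : Type u) [Field K] [Finite K] (V : Type v) [AddCommGroup V] [Module K V] [Module.Finite K V]
    (S : Subgroup (Equiv.Perm (R K V))), S ≤ RA K V → 3 ≤ Module.finrank K V → Group.IsSolvable S →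
    (∃ f ∈ S, f ∉ RP K V) →
    (∃ W : Submodule K V, W ≠ ⊥ ∧ W ≠ ⊤ ∧ ∀ f ∈ S, f ∈ RP K V → Stb f W) → Five S

/-- **Classification**: a solvable subgroup with a non-trivial inner-diagonal part is reducible or of type C2, C3, C4, C6. -/
def StmtClass : Prop :=
  ∀ (K : Type u) [Field K] [Finite K] (V : Type v) [AddCommGroup V] [Module K V] [Module.Finite K V]
    (S : Subgroup (Equiv.Perm (R K V))), 2 ≤ Module.finrank K V → S ≤ RA K V →
    (Module.finrank K V = 2 → S ≤ RP K V) → Group.IsSolvable S → S ⊓ IN K V ≠ ⊥ →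
    (∃ W : Submodule K V, W ≠ ⊥ ∧ W ≠ ⊤ ∧ ∀ f ∈ S, f ∈ RP K V → Stb f W) ∨
    (∃ (k d : ℕ) (e : Fin k → R K V), 2 ≤ k ∧ 1 ≤ d ∧ CompleteOrthogonalIdempotents e ∧
      (∀ i, Module.finrank K (LinearMap.range (e i)) = d) ∧
      ∀ f ∈ S, ∃ π : Equiv.Perm (Fin k), ∀ i, f (e i) = e (π i)) ∨
    (∃ E : Subalgebra K (R K V), IsField E ∧ (Module.finrank K E).Prime ∧ ∀ f ∈ S, ∀ X ∈ E, f X ∈ E) ∨
    (∃ (u' y : ℕ) (Φ : Matrix (Fin u' × Fin y) (Fin u' × Fin y) K ≃ₐ[K] R K V), 2 ≤ u' ∧ 2 ≤ y ∧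
      ∀ f ∈ S, ∀ B : Matrix (Fin u') (Fin u') K, ∃ B' : Matrix (Fin u') (Fin u') K,
        f (Φ (Matrix.kroneckerMap (· * ·) B (1 : Matrix (Fin y) (Fin y) K))) =
          Φ (Matrix.kroneckerMap (· * ·) B' (1 : Matrix (Fin y) (Fin y) K))) ∨
    (∃ (A : Subgroup (Equiv.Perm (R K V))) (r a : ℕ), C6Data S A r a)

/-- every ring automorphism of `R` is induced by a semilinear bijection -/
def StmtSN : Prop :=
  ∀ (K : Type u) [Field K] (V : Type v) [AddCommGroup V] [Module K V] [Module.Finite K V],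
    1 ≤ Module.finrank K V → ∀ f ∈ RP K V, ∃ g ∈ Semi K V, ∀ (X : R K V) (v : V), f X (g v) = g (X v)

/-- every anti-automorphism of `R` is induced by a correlation -/
def StmtSNcor : Prop :=
  ∀ (K : Type u) [Field K] (V : Type v) [AddCommGroup V] [Module K V] [Module.Finite K V],
    1 ≤ Module.finrank K V → ∀ f ∈ RA K V, (∀ X Y : R K V, f (X * Y) = f Y * f X) →
      ∃ (σ : K ≃+* K) (g : V ≃+ Module.Dual K V), (∀ (a : K) (v : V), g (a • v) = σ a • g v) ∧
        ∀ (X : R K V) (v w : V), g (X v) w = g v (f X w)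

/-- from the semilinear language to `R` -/
def StmtBridge : Prop :=
  ∀ (K : Type u) [Field K] [Finite K] (V : Type v) [AddCommGroup V] [Module K V] [Module.Finite K V],
    1 ≤ Module.finrank K V → ∀ S : Subgroup (Equiv.Perm (R K V)), S ≤ RP K V → Group.IsSolvable S →
    ∃ S' : Subgroup (Equiv.Perm V), S' ≤ Semi K V ∧ (∀ a, hm K V a ∈ S') ∧ Group.IsSolvable S' ∧
      (∀ g ∈ Semi K V, g ∈ S' ↔ ∃ f ∈ S, ∀ (X : R K V) (v : V), f X (g v) = g (X v)) ∧
      (∀ W : Submodule K V, (∀ f ∈ S, Stb f W) → ∀ g ∈ S', ∀ w ∈ W, g w ∈ W) ∧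
      (FiveV K V S' → Five S)

/-- from `R` to the semilinear language -/
def StmtBridge2 : Prop :=
  ∀ (K : Type u) [Field K] [Finite K] (V : Type v) [AddCommGroup V] [Module K V] [Module.Finite K V],
    1 ≤ Module.finrank K V → ∀ S' : Subgroup (Equiv.Perm V), S' ≤ Semi K V → (∀ a, hm K V a ∈ S') →
      Group.IsSolvable S' →
      ∃ S : Subgroup (Equiv.Perm (R K V)), S ≤ RP K V ∧ Group.IsSolvable S ∧ (Five S → FiveV K V S')

end Cfsg.Agent.H198.FC
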